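import Cfsg.Agent.BC85.Balance.Main
import Cfsg.Agent.BenderCons37.Discharge

/-!
# Consequences of Bender's theorem for S0504, S3332 and S3109, modulo `BenderSplit`
-/

set_option autoImplicit false

namespace Cfsg.Agent.BenderUse45

open BenderCons37 (BenderSplit)

universe u

variable {G : Type u} [Group G] [Finite G]

theorem benderCore_of (hsp : BenderSplit.{u}) : BC85.Balance.BenderCore.{u} :=
  fun _ _ _ _ hH => BenderCons37.s1221_of hsp hH

/-- The statement of S0504. -/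
theorem s0504_of (hsp : BenderSplit.{u}) (h3 : ¬ Cfsg.PRankLE 2 2 G) (hO : Cfsg.oddCore G = ⊥)
    (hc : ¬ Cfsg.IsComponentType G) (S : Sylow 2 G) (hS : Cfsg.IsFourConnected (S : Subgroup G)) :
    Cfsg.IsCharacteristicTwoType G :=
  BC85.Balance.connected_characteristicTwoType (benderCore_of hsp) h3 hO hc S hS

/-- The statement of S3332. -/
theorem s3332_of (hsp : BenderSplit.{u})
    (_hrank : ¬ Cfsg.PRankLE 2 3 G) (hO : Cfsg.oddCore G = ⊥) (S : Sylow 2 G)
    (A : Subgroup G) (hAS : A ≤ S) (hAn : (A.subgroupOf S).Normal) (hAc : IsMulCommutative A)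
    (_hAself : (S : Subgroup G) ⊓ Subgroup.centralizer (A : Set G) = A) (hA3 : ¬ Cfsg.PRankLE 2 2 A)
    (hsol : ∀ t : G, orderOf t = 2 → Group.IsSolvable (Subgroup.centralizer ({t} : Set G))) :
    ∀ t : G, orderOf t = 2 → Cfsg.oddCore (Subgroup.centralizer ({t} : Set G)) = ⊥ :=
  fun t ht => BC85.Balance.solvable_centralizers (benderCore_of hsp) hO S A hAS hAn hAc hA3 hsol t ht

/-- The statement of S3109. -/
theorem s3109_of [IsSimpleGroup G] (hsp : BenderSplit.{u}) (_hG : ¬ IsMulCommutative G)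
    (h2c : ∀ T : Subgroup G, IsPGroup 2 T → T ≠ ⊥ →
      Cfsg.IsPConstrained 2 ↥(Subgroup.normalizer (T : Set G)))
    (S : Sylow 2 G) (A : Subgroup ↥(S : Subgroup G)) (hAn : A.Normal) (hAab : IsMulCommutative ↥A)
    (_hAC : Subgroup.centralizer (A : Set ↥(S : Subgroup G)) = A) (hA3 : ¬ Cfsg.PRankLE 2 2 ↥A) :
    ∀ t : G, orderOf t = 2 → Cfsg.centralizerPPrimeCore 2 t = ⊥ :=
  fun _ ht => BC85.Balance.constrained_locals (benderCore_of hsp) h2c S A hAn hAab hA3 ht

end Cfsg.Agent.BenderUse45
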